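import Mathlib.Algebra.MvPolynomial.CommRing
import Mathlib.Algebra.Polynomial.Laurent
import Mathlib.FieldTheory.Minpoly.IsIntegrallyClosed
import Mathlib.RingTheory.Polynomial.RationalRoot
import Mathlib.RingTheory.Polynomial.UniqueFactorization
import Mathlib.Analysis.Complex.Polynomial.Basic
import Mathlib.LinearAlgebra.Dimension.RankNullity
import Mathlib.LinearAlgebra.FreeModule.PID
import Mathlib.LinearAlgebra.Dimension.Localization
import Mathlib.RingTheory.Regular.RegularSequence
import Mathlib.Algebra.CharZero.Infinite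

/-! The minimal central order of a family of Weil numbers as a complete intersection. -/

universe u

namespace Groth.Agent.WeilNumLib


section Palindrome

/-- Monic integer polynomials with all complex roots on the circle of radius `√q`. -/
theorem exists_sign_palindrome (P : Polynomial ℤ) (hmon : P.Monic) (q : ℕ) (hq : 0 < q) (D : ℕ)
    (hdeg : P.natDegree = 2 * D) (hweil : ∀ z ∈ P.aroots ℂ, ‖z‖ = Real.sqrt q) :
    ∃ ε : ℤ, ε * ε = 1 ∧ ∀ r ≤ D, P.coeff (D - r) = ε * (q : ℤ) ^ r * P.coeff (D + r) := by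
  classical
  set n := P.natDegree with hn
  set Pc := P.map (Int.castRingHom ℂ) with hPc
  have hPcm : Pc.Monic := hmon.map _
  have hPcn : Pc.natDegree = n := hmon.natDegree_map _
  have hR : P.aroots ℂ = Pc.roots := rfl
  set R := Pc.roots with hRdef
  have hsplit : (R.map fun a => Polynomial.X - Polynomial.C a).prod = Pc :=
    Polynomial.prod_multiset_X_sub_C_of_monic_of_roots_card_eq hPcm (IsAlgClosed.card_roots_eq_natDegree)
  have hcard : Multiset.card R = n := by rw [hRdef, IsAlgClosed.card_roots_eq_natDegree, hPcn]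
  have hev : (-1 : ℂ) ^ n = 1 := by rw [hdeg, pow_mul]; simp
  set c : ℂ := R.prod with hc
  have hc0 : c = (P.coeff 0 : ℂ) := by
    have h1 := congrArg (Polynomial.eval (0 : ℂ)) hsplit
    rw [Polynomial.eval_multiset_prod, Multiset.map_map] at h1
    simp only [Function.comp_def, Polynomial.eval_sub, Polynomial.eval_X, Polynomial.eval_C, zero_sub,
      Multiset.prod_map_neg] at h1
    rw [hcard, hev, one_mul, ← Polynomial.coeff_zero_eq_eval_zero, hPc, Polynomial.coeff_map] at h1
    exact h1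
  have hmodulus : ∀ z ∈ R, z * (starRingEnd ℂ) z = (q : ℂ) := fun z hz => by
    rw [Complex.mul_conj, Complex.normSq_eq_norm_sq, hweil z (hR ▸ hz), Real.sq_sqrt (Nat.cast_nonneg q),
      Complex.ofReal_natCast]
  have hkey : ∀ x : ℂ, x ≠ 0 → Pc.eval ((q : ℂ) / x) * x ^ n = c * Pc.eval x := by
    intro x hx
    have hconj : R.map (starRingEnd ℂ) = R := by
      have h1 : Pc.map (starRingEnd ℂ) = Pc := by
        rw [hPc, Polynomial.map_map]; congr 1
        exact RingHom.ext_int _ _
      have h2 := Polynomial.map_roots_le_of_injective Pc (starRingEnd ℂ).injective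
      rw [h1] at h2
      exact Multiset.eq_of_le_of_card_le h2 (by rw [Multiset.card_map])
    conv_rhs => rw [← hsplit, Polynomial.eval_multiset_prod, Multiset.map_map]
    conv_lhs => rw [← hsplit, Polynomial.eval_multiset_prod, Multiset.map_map]
    have h3 : x ^ n = (R.map fun _ => x).prod := by rw [Multiset.map_const', Multiset.prod_replicate, hcard]
    have h4 : ∀ y : ℂ, (R.map fun a => y - a).prod = (R.map fun a => (starRingEnd ℂ) a - y).prod := by
      intro y
      have h5 : (R.map fun a => y - a).prod = (R.map fun a => a - y).prod := by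
        rw [show (fun a : ℂ => a - y) = Neg.neg ∘ (fun a => y - a) from funext fun a => (neg_sub y a).symm,
          ← Multiset.map_map Neg.neg, Multiset.prod_map_neg, Multiset.card_map, hcard, hev, one_mul]
      rw [h5]
      conv_lhs => rw [← hconj, Multiset.map_map]
      rfl
    simp only [Function.comp_def, Polynomial.eval_sub, Polynomial.eval_X, Polynomial.eval_C]
    rw [h3, h4 x, hc]
    conv_rhs => arg 1; rw [← Multiset.map_id R]
    rw [← Multiset.prod_map_mul, ← Multiset.prod_map_mul]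
    refine congrArg Multiset.prod (Multiset.map_congr rfl fun a ha => ?_)
    simp only [id]
    rw [sub_mul, div_mul_cancel₀ _ hx, ← hmodulus a ha]
    ring
  have hpoly : (∑ j ∈ Finset.range (n + 1), Polynomial.C ((P.coeff j : ℂ) * (q : ℂ) ^ j) * Polynomial.X ^ (n - j))
      = Polynomial.C c * Pc := by
    refine Polynomial.eq_of_infinite_eval_eq _ _ (Set.Infinite.mono (s := {x : ℂ | x ≠ 0}) ?_ ?_)
    · intro x hx
      show Polynomial.eval x _ = Polynomial.eval x _
      rw [Polynomial.eval_mul, Polynomial.eval_C, ← hkey x hx, Polynomial.eval_finsetSum,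
        Polynomial.eval_eq_sum_range, hPcn, Finset.sum_mul]
      refine Finset.sum_congr rfl fun j hj => ?_
      have hjn : j ≤ n := Nat.lt_succ_iff.mp (Finset.mem_range.mp hj)
      simp only [Polynomial.eval_mul, Polynomial.eval_C, Polynomial.eval_pow, Polynomial.eval_X, hPc,
        Polynomial.coeff_map, eq_intCast]
      rw [← Nat.sub_add_cancel hjn, Nat.add_sub_cancel, pow_add, div_pow]
      field_simp
      rw [mul_div_assoc, div_self (pow_ne_zero j hx), mul_one]
    · exact (Set.finite_singleton (0 : ℂ)).infinite_compl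
  have hcoef : ∀ j ≤ n, P.coeff j * (q : ℤ) ^ j = P.coeff 0 * P.coeff (n - j) := by
    intro j hj
    have h1 := congrArg (fun f : Polynomial ℂ => f.coeff (n - j)) hpoly
    simp only [Polynomial.finsetSum_coeff, Polynomial.coeff_C_mul, Polynomial.coeff_X_pow, hPc,
      Polynomial.coeff_map, eq_intCast] at h1
    rw [Finset.sum_eq_single j] at h1
    · rw [if_pos rfl, mul_one, hc0] at h1
      exact_mod_cast h1
    · intro b hb hbj
      rw [if_neg, mul_zero]
      have := Finset.mem_range.mp hb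
      omega
    · intro h
      exact absurd (Finset.mem_range.mpr (by omega)) h
  have hqD : (q : ℤ) ^ D ≠ 0 := pow_ne_zero _ (by exact_mod_cast hq.ne')
  have h2 : P.coeff 0 ^ 2 = ((q : ℤ) ^ D) ^ 2 := by
    have h1 := hcoef n le_rfl
    rw [Nat.sub_self, hmon.coeff_natDegree, one_mul] at h1
    rw [sq, ← h1, hdeg, ← pow_mul, mul_comm D 2]
  obtain ⟨ε, hε, hε0⟩ : ∃ ε : ℤ, ε * ε = 1 ∧ P.coeff 0 = ε * (q : ℤ) ^ D := by
    rcases sq_eq_sq_iff_eq_or_eq_neg.mp h2 with h | h
    · exact ⟨1, by norm_num, by rw [h, one_mul]⟩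
    · exact ⟨-1, by norm_num, by rw [h, neg_one_mul]⟩
  refine ⟨ε, hε, fun r hr => mul_right_cancel₀ (pow_ne_zero (D - r) (show (q : ℤ) ≠ 0 by exact_mod_cast hq.ne')) ?_⟩
  rw [hcoef (D - r) (by omega), show n - (D - r) = D + r by omega, hε0,
    show (q : ℤ) ^ D = (q : ℤ) ^ r * (q : ℤ) ^ (D - r) by rw [← pow_add, Nat.add_sub_cancel' hr]]
  ring

end Palindrome

section Laurent

open MvPolynomial LaurentPolynomial

variable (q : ℤ)

/-- The relation `FV - q`. -/
noncomputable def rel : MvPolynomial (Fin 2) ℤ := X 0 * X 1 - MvPolynomial.C q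

/-- `F ↦ T`, `V ↦ q T⁻¹`. -/
noncomputable def lam : MvPolynomial (Fin 2) ℤ →ₐ[ℤ] LaurentPolynomial ℤ :=
  MvPolynomial.aeval ![T 1, LaurentPolynomial.C q * T (-1)]

theorem lam_X0 : lam q (X 0) = T 1 := by simp [lam]

theorem lam_X1 : lam q (X 1) = LaurentPolynomial.C q * T (-1) := by simp [lam]

theorem lam_rel : lam q (rel q) = 0 := by
  rw [rel, map_sub, map_mul, lam_X0, lam_X1, mul_left_comm, ← T_add, add_neg_cancel, T_zero, mul_one, sub_eq_zero]
  simp [lam]

theorem aeval_T_eq_toLaurent (f : Polynomial ℤ) : Polynomial.aeval (T 1 : LaurentPolynomial ℤ) f = Polynomial.toLaurent f := by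
  rw [← Polynomial.toLaurent_X]
  exact (Polynomial.aeval_algHom_apply (Polynomial.toLaurentAlg (R := ℤ)) Polynomial.X f).trans
    (by rw [Polynomial.aeval_X_left_apply]; rfl)

theorem lam_aeval_X0 (f : Polynomial ℤ) :
    lam q (Polynomial.aeval (X 0 : MvPolynomial (Fin 2) ℤ) f) = Polynomial.toLaurent f := by
  rw [← Polynomial.aeval_algHom_apply, lam_X0, aeval_T_eq_toLaurent]

theorem exists_normal_form (g : MvPolynomial (Fin 2) ℤ) :
    ∃ f e : Polynomial ℤ, g - (Polynomial.aeval (X 0) f + X 1 * Polynomial.aeval (X 1) e) ∈ Ideal.span {rel q} := by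
  induction g using MvPolynomial.induction_on' with
  | add g₁ g₂ h₁ h₂ =>
    obtain ⟨f₁, e₁, h₁⟩ := h₁
    obtain ⟨f₂, e₂, h₂⟩ := h₂
    refine ⟨f₁ + f₂, e₁ + e₂, ?_⟩
    convert add_mem h₁ h₂ using 1
    simp only [map_add]; ring
  | monomial s a =>
    have hs : MvPolynomial.monomial s a = MvPolynomial.C a * (X 0 ^ s 0 * X 1 ^ s 1) := by
      rw [MvPolynomial.monomial_eq, Finsupp.prod_fintype _ _ (fun i => pow_zero _), Fin.prod_univ_two]
    have hxy : ∀ b : ℕ, (X 0 * X 1) ^ b - MvPolynomial.C (q ^ b) ∈ Ideal.span {rel q} := fun b => by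
      rw [Ideal.mem_span_singleton, map_pow]
      exact sub_dvd_pow_sub_pow _ _ b
    rcases le_or_gt (s 1) (s 0) with h | h
    · refine ⟨Polynomial.C (a * q ^ s 1) * Polynomial.X ^ (s 0 - s 1), 0, ?_⟩
      obtain ⟨d, hd⟩ := Nat.exists_eq_add_of_le h
      rw [hs, hd, Nat.add_sub_cancel_left]
      convert Ideal.mul_mem_left _ (MvPolynomial.C a * X 0 ^ d) (hxy (s 1)) using 1
      simp only [map_zero, mul_zero, add_zero, map_mul, map_pow, Polynomial.aeval_C, Polynomial.aeval_X,
        MvPolynomial.algebraMap_eq]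
      ring
    · refine ⟨0, Polynomial.C (a * q ^ s 0) * Polynomial.X ^ (s 1 - s 0 - 1), ?_⟩
      obtain ⟨d, hd⟩ := Nat.exists_eq_add_of_lt h
      rw [hs, hd, show s 0 + d + 1 - s 0 - 1 = d by omega]
      convert Ideal.mul_mem_left _ (MvPolynomial.C a * X 1 ^ (d + 1)) (hxy (s 0)) using 1
      simp only [map_zero, zero_add, map_mul, map_pow, Polynomial.aeval_C, Polynomial.aeval_X,
        MvPolynomial.algebraMap_eq]
      ring

theorem ker_lam (hq : q ≠ 0) (g : MvPolynomial (Fin 2) ℤ) : lam q g = 0 ↔ g ∈ Ideal.span {rel q} := by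
  constructor
  · intro hg
    obtain ⟨f, e, hfe⟩ := exists_normal_form q g
    obtain ⟨r, hr⟩ := Ideal.mem_span_singleton'.mp hfe
    have h1 : lam q (Polynomial.aeval (X 0) f + X 1 * Polynomial.aeval (X 1) e) = 0 := by
      have := congrArg (lam q) hr
      rw [map_mul, lam_rel, mul_zero, map_sub, hg, zero_sub, eq_comm, neg_eq_zero] at this
      exact this
    rw [map_add, map_mul, lam_aeval_X0, ← Polynomial.aeval_algHom_apply, lam_X1,
      Polynomial.aeval_eq_sum_range, Finset.mul_sum] at h1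
    have hterm : ∀ i : ℕ, LaurentPolynomial.C q * T (-1) * (e.coeff i • (LaurentPolynomial.C q * T (-1)) ^ i)
        = LaurentPolynomial.C (e.coeff i * q ^ (i + 1)) * T (-((i : ℤ) + 1)) := fun i => by
      rw [mul_smul_comm, ← pow_succ', mul_pow, T_pow, ← map_pow, map_mul, zsmul_eq_mul,
        show ((i + 1 : ℕ) : ℤ) * (-1) = -((i : ℤ) + 1) by push_cast; ring]
      rw [eq_intCast LaurentPolynomial.C (e.coeff i)]
      ring
    simp only [hterm] at h1
    have hcoe : ∀ (x : ℤ) (j : ℤ) (i : ℤ), (LaurentPolynomial.C x * T j).coeff i = if j = i then x else 0 :=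
      fun x j i => by rw [← single_eq_C_mul_T, AddMonoidAlgebra.coeff_single, Finsupp.single_apply]
    have hf : f = 0 := by
      ext i
      have h2 := congrArg (fun l : LaurentPolynomial ℤ => l.coeff (i : ℤ)) h1
      rw [Polynomial.coeff_zero]
      simp only [AddMonoidAlgebra.coeff_add, Finsupp.add_apply, AddMonoidAlgebra.coeff_sum,
        Finsupp.finsetSum_apply, AddMonoidAlgebra.coeff_zero, Finsupp.zero_apply, hcoe] at h2
      rw [Finset.sum_eq_zero (fun j _ => if_neg (by omega)), add_zero, coeff_toLaurent,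
        show ((i : ℕ) : ℤ) = Nat.castEmbedding i from rfl, Finsupp.mapDomain_apply Nat.castEmbedding.injective] at h2
      cases f; simpa [Polynomial.coeff] using h2
    have he : e = 0 := by
      rw [hf, map_zero, zero_add] at h1
      ext i
      rw [Polynomial.coeff_zero]
      by_cases hi : i < e.natDegree + 1
      · have h2 := congrArg (fun l : LaurentPolynomial ℤ => l.coeff (-((i : ℤ) + 1))) h1
        simp only [AddMonoidAlgebra.coeff_sum, Finsupp.finsetSum_apply, AddMonoidAlgebra.coeff_zero,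
          Finsupp.zero_apply, hcoe] at h2
        rw [Finset.sum_eq_single i (fun j _ hj => if_neg (by omega))
          (fun h => absurd (Finset.mem_range.mpr hi) h), if_pos rfl] at h2
        exact (mul_eq_zero.mp h2).resolve_right (pow_ne_zero _ hq)
      · exact Polynomial.coeff_eq_zero_of_natDegree_lt (by omega)
    rw [hf, he, map_zero, map_zero, mul_zero, add_zero, sub_zero] at hr
    exact Ideal.mem_span_singleton'.mpr ⟨r, hr⟩
  · intro hg
    obtain ⟨r, rfl⟩ := Ideal.mem_span_singleton'.mp hg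
    rw [map_mul, lam_rel, mul_zero]

theorem isDomain_quotient (hq : q ≠ 0) {a b : MvPolynomial (Fin 2) ℤ} (hab : a * b ∈ Ideal.span {rel q})
    (hb : lam q b ≠ 0) : a ∈ Ideal.span {rel q} := by
  rw [← ker_lam q hq] at hab ⊢
  rw [map_mul] at hab
  exact (mul_eq_zero.mp hab).resolve_right hb

/-- The standard representative of `P(F) / F^D`. -/
noncomputable def hRep (P : Polynomial ℤ) (D : ℕ) (ε : ℤ) : MvPolynomial (Fin 2) ℤ :=
  (∑ r ∈ Finset.range (D + 1), MvPolynomial.C (P.coeff (D + r)) * X 0 ^ r)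
    + ∑ r ∈ Finset.range D, MvPolynomial.C (ε * P.coeff (D + r + 1)) * X 1 ^ (r + 1)

theorem lam_hRep (P : Polynomial ℤ) (D : ℕ) (ε : ℤ) (hdeg : P.natDegree = 2 * D)
    (hpal : ∀ r ≤ D, P.coeff (D - r) = ε * q ^ r * P.coeff (D + r)) :
    lam q (X 0 ^ D * hRep P D ε) = Polynomial.toLaurent P := by
  conv_rhs => rw [P.as_sum_range_C_mul_X_pow]
  rw [hdeg, map_sum, show 2 * D + 1 = D + (D + 1) by ring, Finset.sum_range_add, hRep, mul_add, map_add,
    Finset.mul_sum, Finset.mul_sum, map_sum, map_sum, add_comm]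
  congr 1
  · rw [← Finset.sum_range_reflect (fun i => Polynomial.toLaurent (Polynomial.C (P.coeff i) * Polynomial.X ^ i)) D]
    refine Finset.sum_congr rfl fun r hr => ?_
    have hr' := Finset.mem_range.mp hr
    have hC : ∀ x : ℤ, lam q (MvPolynomial.C x) = LaurentPolynomial.C x := fun x => by simp [lam]
    rw [show D - 1 - r = D - (r + 1) by omega, hpal (r + 1) (by omega)]
    simp only [map_mul, map_pow, lam_X0, lam_X1, hC, Polynomial.toLaurent_C, Polynomial.toLaurent_X, T_pow, mul_pow, mul_one, ← add_assoc D r 1]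
    rw [show ((D - (r + 1) : ℕ) : ℤ) = (D : ℤ) + ((r + 1 : ℕ) : ℤ) * -1 by omega, T_add]
    ring
  · refine Finset.sum_congr rfl fun r _ => ?_
    have hC : ∀ x : ℤ, lam q (MvPolynomial.C x) = LaurentPolynomial.C x := fun x => by simp [lam]
    rw [map_mul, map_pow, lam_X0, map_mul, map_pow, lam_X0, hC, T_pow, T_pow, map_mul, map_pow,
      Polynomial.toLaurent_C, Polynomial.toLaurent_X, T_pow, mul_left_comm, ← T_add]
    congr 2
    push_cast; ring

end Laurent

section Order

open MvPolynomial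

variable (p e : ℕ) [Fact p.Prime] (he : 0 < e)
variable {ι : Type} [Fintype ι] {K : ι → Type u} [∀ i, Field (K i)] [∀ i, CharZero (K i)] (π : ∀ i, K i)
variable (hint : ∀ i, IsIntegral ℤ (π i))
  (hweil : ∀ i, ∀ z ∈ (minpoly ℤ (π i)).aroots ℂ, ‖z‖ = Real.sqrt ((p : ℝ) ^ e))
  (hinj : ∀ i j, minpoly ℤ (π i) = minpoly ℤ (π j) → i = j)
  (D : ℕ) (hD : ∑ i, (minpoly ℤ (π i)).natDegree = 2 * D)

/-- The evaluation map. -/
noncomputable abbrev ev : MvPolynomial (Fin 2) ℤ →ₐ[ℤ] ((i : ι) → K i) :=
  MvPolynomial.aeval ![fun i => π i, fun i => ((p : K i) ^ e) / π i]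

include hint hweil he in
theorem pi_ne_zero (i : ι) : π i ≠ 0 := by
  intro h
  have h0 : (minpoly ℤ (π i)).coeff 0 = 0 := by
    have h1 := minpoly.aeval ℤ (π i)
    generalize hP : minpoly ℤ (π i) = P at h1 ⊢
    rw [h, ← Polynomial.coeff_zero_eq_aeval_zero'] at h1
    simpa using h1
  have hmem : (0 : ℂ) ∈ (minpoly ℤ (π i)).aroots ℂ := by
    rw [Polynomial.mem_aroots]
    refine ⟨(minpoly.monic (hint i)).ne_zero, ?_⟩
    rw [← Polynomial.coeff_zero_eq_aeval_zero', h0, map_zero]
  have := hweil i 0 hmem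
  rw [norm_zero, eq_comm, Real.sqrt_eq_zero (by positivity)] at this
  exact (pow_ne_zero e (Nat.cast_ne_zero.mpr (Fact.out : p.Prime).ne_zero)) this

omit [Fact p.Prime] in
theorem ev_X0 (i : ι) : ev p e π (X 0) i = π i := by simp [ev]

omit [Fact p.Prime] in
theorem ev_X1 (i : ι) : ev p e π (X 1) i = (p : K i) ^ e / π i := by simp [ev]

include hint hweil he in
theorem ev_rel : ev p e π (rel ((p : ℤ) ^ e)) = 0 := by
  funext i
  rw [rel, map_sub, map_mul, Pi.sub_apply, Pi.mul_apply, ev_X0, ev_X1,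
    mul_div_cancel₀ _ (pi_ne_zero p e he π hint hweil i)]
  simp [ev]

omit [Fact p.Prime] in
theorem ev_aeval_X0 (f : Polynomial ℤ) (i : ι) :
    ev p e π (Polynomial.aeval (X 0 : MvPolynomial (Fin 2) ℤ) f) i = Polynomial.aeval (π i) f := by
  rw [← Polynomial.aeval_algHom_apply (ev p e π) (X 0) f, Polynomial.aeval_pi_apply₂, ev_X0]

/-- The product of the minimal polynomials. -/
noncomputable def Pw : Polynomial ℤ := ∏ i, minpoly ℤ (π i)

include hint in
theorem monic_Pw : (Pw π).Monic := Polynomial.monic_prod_of_monic _ _ fun i _ => minpoly.monic (hint i)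

include hint hD in
theorem natDegree_Pw : (Pw π).natDegree = 2 * D := by
  rw [Pw, Polynomial.natDegree_prod_of_monic _ _ fun i _ => minpoly.monic (hint i), hD]

include hint hweil in
theorem weil_Pw : ∀ z ∈ (Pw π).aroots ℂ, ‖z‖ = Real.sqrt ((p ^ e : ℕ) : ℝ) := by
  intro z hz
  rw [Polynomial.mem_aroots, Pw, map_prod, Finset.prod_eq_zero_iff] at hz
  obtain ⟨i, -, hi⟩ := hz.2
  rw [Nat.cast_pow]
  exact hweil i z (Polynomial.mem_aroots.mpr ⟨(minpoly.monic (hint i)).ne_zero, hi⟩)

include hint hinj hD in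
theorem eq_zero_of_aeval_eq_zero {f : Polynomial ℤ} (hf : f.natDegree < 2 * D)
    (h : ∀ i, Polynomial.aeval (π i) f = 0) : f = 0 := by
  have hdvd : Pw π ∣ f := by
    refine Finset.prod_dvd_of_isRelPrime (fun i _ j _ hij => ?_) fun i _ =>
      minpoly.isIntegrallyClosed_dvd (hint i) (h i)
    refine (minpoly.irreducible (hint i)).isRelPrime_iff_not_dvd.mpr fun hd => hij (hinj i j ?_)
    exact Polynomial.eq_of_monic_of_associated (minpoly.monic (hint i)) (minpoly.monic (hint j))
      ((minpoly.irreducible (hint i)).associated_of_dvd (minpoly.irreducible (hint j)) hd)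
  by_contra hne
  have := Polynomial.natDegree_le_of_dvd hdvd hne
  rw [natDegree_Pw π hint D hD] at this
  omega

variable (h : MvPolynomial (Fin 2) ℤ)
  (hh : X 0 ^ D * h - Polynomial.aeval (X 0 : MvPolynomial (Fin 2) ℤ) (∏ i, minpoly ℤ (π i)) ∈
    Ideal.span ({X 0 * X 1 - MvPolynomial.C ((p : ℤ) ^ e)} : Set (MvPolynomial (Fin 2) ℤ)))

include hh in
theorem lam_h : LaurentPolynomial.T (D : ℤ) * lam ((p : ℤ) ^ e) h = Polynomial.toLaurent (Pw π) := by
  obtain ⟨r, hr⟩ := Ideal.mem_span_singleton'.mp hh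
  have := congrArg (lam ((p : ℤ) ^ e)) hr
  rw [show X 0 * X 1 - MvPolynomial.C ((p : ℤ) ^ e) = rel ((p : ℤ) ^ e) from rfl, map_mul, lam_rel, mul_zero,
    map_sub, eq_comm, sub_eq_zero, map_mul, map_pow, lam_X0, LaurentPolynomial.T_pow, mul_one, lam_aeval_X0] at this
  exact this

include hh hint in
theorem lam_h_ne_zero : lam ((p : ℤ) ^ e) h ≠ 0 := by
  intro h0
  have := lam_h p e π D h hh
  rw [h0, mul_zero] at this
  exact (monic_Pw π hint).ne_zero (Polynomial.toLaurent_injective (this.symm.trans (map_zero _).symm))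

include he hint hweil hh in
theorem span_le_ker : Ideal.span {X 0 * X 1 - MvPolynomial.C ((p : ℤ) ^ e), h} ≤ RingHom.ker (ev p e π) := by
  rw [Ideal.span_le]
  have hr := ev_rel p e he π hint hweil
  rintro x (rfl | rfl)
  · exact hr
  · obtain ⟨r, hr'⟩ := Ideal.mem_span_singleton'.mp hh
    have h1 := congrArg (ev p e π) hr'
    rw [show X 0 * X 1 - MvPolynomial.C ((p : ℤ) ^ e) = rel ((p : ℤ) ^ e) from rfl, map_mul, hr, mul_zero,
      map_sub, eq_comm, sub_eq_zero] at h1
    funext i
    have h2 := congrFun h1 i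
    rw [map_mul, map_pow, Pi.mul_apply, Pi.pow_apply, ev_X0, ev_aeval_X0, map_prod,
      Finset.prod_eq_zero (Finset.mem_univ i) (minpoly.aeval ℤ (π i))] at h2
    exact (mul_eq_zero.mp h2).resolve_left (pow_ne_zero _ (pi_ne_zero p e he π hint hweil i))

/-- The spanning family. -/
noncomputable def fam (i : Fin (2 * D)) : MvPolynomial (Fin 2) ℤ :=
  if (i : ℕ) < D then X 0 ^ (i : ℕ) else X 1 ^ ((i : ℕ) - D + 1)

include he hint hweil hD hh in
theorem span_fam_top :
    Submodule.span ℤ (Set.range (fam D)) ⊔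
      (Ideal.span {X 0 * X 1 - MvPolynomial.C ((p : ℤ) ^ e), h}).restrictScalars ℤ = ⊤ := by
  have hp : p.Prime := Fact.out
  set q : ℤ := (p : ℤ) ^ e with hq
  set J := Ideal.span {X 0 * X 1 - MvPolynomial.C q, h} with hJ
  set S := Submodule.span ℤ (Set.range (fam D)) ⊔ J.restrictScalars ℤ with hS
  obtain ⟨ε, hε, hpal⟩ := exists_sign_palindrome (Pw π) (monic_Pw π hint) (p ^ e) (pow_pos hp.pos e) D
    (natDegree_Pw π hint D hD) (weil_Pw p e π hint hweil)
  rw [Nat.cast_pow] at hpal
  have hrelJ : ∀ x, x ∈ Ideal.span {rel q} → x ∈ J := fun x hx => by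
    obtain ⟨r, rfl⟩ := Ideal.mem_span_singleton'.mp hx
    exact Ideal.mul_mem_left _ _ (Ideal.subset_span (Set.mem_insert _ _))
  have hrepJ : hRep (Pw π) D ε ∈ J := by
    have h1 : h - hRep (Pw π) D ε ∈ Ideal.span {rel q} := by
      rw [← ker_lam q (pow_ne_zero _ (by exact_mod_cast hp.ne_zero)), map_sub, sub_eq_zero]
      refine mul_left_cancel₀ (LaurentPolynomial.isUnit_T (D : ℤ)).ne_zero ?_
      rw [lam_h p e π D h hh, ← lam_hRep q (Pw π) D ε (natDegree_Pw π hint D hD) hpal, map_mul, map_pow,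
        lam_X0, LaurentPolynomial.T_pow, mul_one]
    have h2 : h ∈ J := Ideal.subset_span (Set.mem_insert_of_mem _ rfl)
    simpa using sub_mem h2 (hrelJ _ h1)
  have hJS : ∀ x ∈ J, x ∈ S := fun x hx => Submodule.mem_sup_right hx
  have hC : ∀ (a : ℤ) (x : MvPolynomial (Fin 2) ℤ), x ∈ S → MvPolynomial.C a * x ∈ S := fun a x hx => by
    rw [← MvPolynomial.smul_eq_C_mul]; exact S.smul_mem a hx
  have hF : ∀ i, i < D → X 0 ^ i ∈ S := fun i hi =>
    Submodule.mem_sup_left (Submodule.subset_span ⟨⟨i, by omega⟩, by simp [fam, hi]⟩)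
  have hV : ∀ j, 1 ≤ j → j ≤ D → X 1 ^ j ∈ S := fun j h1 h2 =>
    Submodule.mem_sup_left (Submodule.subset_span ⟨⟨D + j - 1, by omega⟩, by
      simp only [fam]
      rw [if_neg (by omega), show D + j - 1 - D + 1 = j by omega]⟩)
  have hlead : (Pw π).coeff (D + D) = 1 := by
    have := (monic_Pw π hint).coeff_natDegree
    rwa [natDegree_Pw π hint D hD, two_mul] at this
  have hFD : X 0 ^ D ∈ S := by
    have h1 := hJS _ hrepJ
    rw [hRep, Finset.sum_range_succ, hlead, map_one, one_mul, add_assoc, add_left_comm] at h1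
    exact (add_mem_cancel_right (add_mem (sum_mem fun r hr => hC _ _ (hF r (Finset.mem_range.mp hr)))
      (sum_mem fun r hr => hC _ _ (hV (r + 1) (by omega) (by have := Finset.mem_range.mp hr; omega))))).mp h1
  have hF' : ∀ i, i ≤ D → X 0 ^ i ∈ S := fun i hi => by
    rcases eq_or_lt_of_le hi with rfl | hlt
    · exact hFD
    · exact hF i hlt
  have hred : ∀ x, x ∈ S → x * (X 0 * X 1) ∈ S := fun x hx => by
    have : x * (X 0 * X 1) = x * (X 0 * X 1 - MvPolynomial.C q) + MvPolynomial.C q * x := by ring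
    rw [this]
    exact add_mem (hJS _ (Ideal.mul_mem_left _ _ (Ideal.subset_span (Set.mem_insert _ _)))) (hC _ _ hx)
  have hXF : ∀ i, i ≤ D → X 1 * X 0 ^ i ∈ S := fun i hi => by
    rcases Nat.eq_zero_or_pos i with rfl | hi0
    · rcases Nat.eq_zero_or_pos D with hD0 | hD0
      · have h1 := hred _ hFD
        have h2 : (1 : MvPolynomial (Fin 2) ℤ) ∈ J := by
          have := hrepJ
          simpa [hRep, hD0, show (Pw π).coeff 0 = 1 by simpa [hD0] using hlead] using this
        exact hJS _ (by simpa using J.mul_mem_left (X 1) h2)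
      · simpa using hV 1 le_rfl hD0
    · obtain ⟨i, rfl⟩ := Nat.exists_eq_add_of_le' hi0
      rw [pow_succ, mul_comm, mul_assoc]
      exact hred _ (hF' i (by omega))
  have hX0 : ∀ x ∈ Set.range (fam D), X 0 * x ∈ S := by
    rintro _ ⟨i, rfl⟩
    simp only [fam]
    have := i.2
    split_ifs with hi
    · rw [← pow_succ']; exact hF' _ (by omega)
    · rw [pow_succ, mul_left_comm]
      refine hred _ ?_
      rcases Nat.eq_zero_or_pos ((i : ℕ) - D) with h0 | h0
      · rw [h0, pow_zero]; simpa using hF' 0 (Nat.zero_le _)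
      · exact hV _ h0 (by omega)
  have hX1 : ∀ x ∈ Set.range (fam D), X 1 * x ∈ S := by
    rintro _ ⟨i, rfl⟩
    simp only [fam]
    have := i.2
    split_ifs with hi
    · exact hXF _ (by omega)
    · rw [← pow_succ']
      by_cases hlt : (i : ℕ) - D + 1 + 1 ≤ D
      · exact hV _ (by omega) hlt
      rw [show (i : ℕ) - D + 1 + 1 = D + 1 by omega]
      obtain ⟨D', hD'⟩ : ∃ D', D = D' + 1 := ⟨D - 1, by omega⟩
      have h1 := hJS _ (J.mul_mem_left (X 1) hrepJ)
      rw [hRep, mul_add, Finset.mul_sum, Finset.mul_sum] at h1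
      have h2 : ∑ r ∈ Finset.range D, X 1 * (MvPolynomial.C (ε * (Pw π).coeff (D + r + 1)) * X 1 ^ (r + 1)) ∈ S := by
        refine (add_mem_cancel_left (sum_mem fun r hr => ?_)).mp h1
        rw [mul_left_comm]
        exact hC _ _ (hXF r (Nat.lt_succ_iff.mp (Finset.mem_range.mp hr)))
      rw [show Finset.range D = Finset.range (D' + 1) by rw [hD'], Finset.sum_range_succ] at h2
      have h3 := (add_mem_cancel_left (sum_mem fun r hr => by
        rw [mul_left_comm, ← pow_succ']
        exact hC _ _ (hV _ (by omega) (by have := Finset.mem_range.mp hr; omega)))).mp h2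
      rw [show D + D' + 1 = D + D by omega, hlead, mul_one, mul_left_comm, ← pow_succ',
        show D' + 1 + 1 = D + 1 by omega] at h3
      have h4 := hC ε _ h3
      rwa [← mul_assoc, ← map_mul, hε, map_one, one_mul] at h4
  have hclosed : ∀ (v : Fin 2) x, x ∈ S → X v * x ∈ S := by
    intro v x hx
    obtain ⟨y, hy, z, hz, rfl⟩ := Submodule.mem_sup.mp hx
    rw [mul_add]
    refine add_mem ?_ (hJS _ (J.mul_mem_left _ hz))
    clear hx
    induction hy using Submodule.span_induction with
    | mem w hw =>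
      rcases Fin.exists_fin_two.mp ⟨v, rfl⟩ with h' | h' <;> rw [h']
      · exact hX0 w hw
      · exact hX1 w hw
    | zero => simp
    | add w₁ w₂ _ _ i₁ i₂ => rw [mul_add]; exact add_mem i₁ i₂
    | smul a w _ ih => rw [mul_smul_comm]; exact S.smul_mem a ih
  rw [eq_top_iff]
  intro g _
  induction g using MvPolynomial.induction_on with
  | C a => simpa using hC a 1 (by simpa using hF' 0 (Nat.zero_le _))
  | add g₁ g₂ i₁ i₂ => exact add_mem (i₁ trivial) (i₂ trivial)
  | mul_X g v ih => rw [mul_comm]; exact hclosed v g (ih trivial)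

include he hint hweil hinj hD hh in
/-- The kernel, and the freeness of the image. -/
theorem ker_and_rank :
    RingHom.ker (ev p e π) = Ideal.span {X 0 * X 1 - MvPolynomial.C ((p : ℤ) ^ e), h} ∧
      Nonempty ((Fin (2 * D) → ℤ) ≃ₗ[ℤ] (ev p e π).range) := by
  classical
  set J := Ideal.span {X 0 * X 1 - MvPolynomial.C ((p : ℤ) ^ e), h} with hJ
  have hle := span_le_ker p e he π hint hweil D h hh
  let Φ : (Fin (2 * D) → ℤ) →ₗ[ℤ] MvPolynomial (Fin 2) ℤ := Fintype.linearCombination ℤ (fam D)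
  let Ψ := (ev p e π).toLinearMap ∘ₗ Φ
  have htop := span_fam_top p e he π hint hweil D hD h hh
  have hdec : ∀ g, ∃ c, g - Φ c ∈ J := fun g => by
    obtain ⟨y, hy, z, hz, hyz⟩ := Submodule.mem_sup.mp (htop.symm ▸ Submodule.mem_top : g ∈ _)
    rw [← Fintype.range_linearCombination] at hy
    obtain ⟨c, rfl⟩ := hy
    exact ⟨c, by rw [← hyz, add_sub_cancel_left]; exact hz⟩
  have hrange : LinearMap.range Ψ = Subalgebra.toSubmodule (ev p e π).range := by
    ext x
    constructor
    · rintro ⟨c, rfl⟩; exact ⟨Φ c, rfl⟩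
    · rintro ⟨g, rfl⟩
      obtain ⟨c, hc⟩ := hdec g
      refine ⟨c, ?_⟩
      have := hle hc
      rw [RingHom.mem_ker, map_sub, sub_eq_zero] at this
      exact this.symm
  have hli : LinearIndependent ℤ (fun i : Fin (2 * D) =>
      (⟨ev p e π (X 0 ^ (i : ℕ)), hrange.symm ▸ ⟨_, rfl⟩⟩ : LinearMap.range Ψ)) := by
    refine LinearIndependent.of_comp (LinearMap.range Ψ).subtype ?_
    rw [Fintype.linearIndependent_iff]
    intro c hc
    set f : Polynomial ℤ := ∑ i : Fin (2 * D), Polynomial.C (c i) * Polynomial.X ^ (i : ℕ) with hf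
    have hfdeg : f = 0 := by
      rcases Nat.eq_zero_or_pos (2 * D) with h0 | h0
      · rw [hf]
        exact Finset.sum_eq_zero fun i _ => absurd i.2 (by omega)
      refine eq_zero_of_aeval_eq_zero π hint hinj D hD ?_ fun i => ?_
      · refine lt_of_le_of_lt (Polynomial.natDegree_sum_le_of_forall_le _ _ (n := 2 * D - 1) fun i _ => ?_) (by omega)
        refine (Polynomial.natDegree_C_mul_X_pow_le _ _).trans ?_
        have := i.2
        omega
      · have := congrFun hc i
        simp only [Function.comp_apply, Submodule.subtype_apply, Finset.sum_apply, Pi.smul_apply, map_pow,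
          Pi.pow_apply, ev_X0, Pi.zero_apply, zsmul_eq_mul] at this
        rw [hf, map_sum]
        refine Eq.trans (Finset.sum_congr rfl fun j _ => ?_) this
        simp
    intro i
    have := congrArg (fun g : Polynomial ℤ => g.coeff (i : ℕ)) hfdeg
    simp only [hf, Polynomial.finsetSum_coeff, Polynomial.coeff_C_mul_X_pow, Polynomial.coeff_zero] at this
    rwa [Finset.sum_eq_single i (fun j _ hj => if_neg fun h' => hj (Fin.ext h'.symm))
      (fun h' => absurd (Finset.mem_univ i) h'), if_pos rfl] at this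
  have hinjΨ : Function.Injective Ψ := by
    rw [← LinearMap.ker_eq_bot]
    have h1 := hli.fintype_card_le_finrank
    rw [Fintype.card_fin] at h1
    have h2 := Submodule.finrank_quotient_add_finrank (LinearMap.ker Ψ)
    rw [Ψ.quotKerEquivRange.finrank_eq, Module.finrank_fintype_fun_eq_card, Fintype.card_fin] at h2
    exact Submodule.finrank_eq_zero.mp (by omega)
  refine ⟨le_antisymm (fun g hg => ?_) hle,
    ⟨(LinearEquiv.ofInjective Ψ hinjΨ).trans (LinearEquiv.ofEq _ _ hrange)⟩⟩
  obtain ⟨c, hc⟩ := hdec g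
  have h1 := hle hc
  rw [RingHom.mem_ker, map_sub, (RingHom.mem_ker (f := ev p e π)).mp hg, zero_sub, neg_eq_zero] at h1
  rw [show c = 0 from hinjΨ (h1.trans (map_zero Ψ).symm), map_zero, sub_zero] at hc
  exact hc

include hint hh in
theorem isWeaklyRegular :
    RingTheory.Sequence.IsWeaklyRegular (MvPolynomial (Fin 2) ℤ) [X 0 * X 1 - MvPolynomial.C ((p : ℤ) ^ e), h] := by
  have hq : (p : ℤ) ^ e ≠ 0 := pow_ne_zero _ (by exact_mod_cast (Fact.out : p.Prime).ne_zero)
  have hne : rel ((p : ℤ) ^ e) ≠ 0 := by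
    intro h0
    have := congrArg (MvPolynomial.eval (fun _ => (0 : ℤ))) h0
    simp [rel, hq] at this
  rw [RingTheory.Sequence.isWeaklyRegular_cons_iff, RingTheory.Sequence.isWeaklyRegular_cons_iff]
  refine ⟨isSMulRegular_iff_right_eq_zero_of_smul.mpr fun x hx => (mul_eq_zero.mp hx).resolve_left hne, ?_,
    RingTheory.Sequence.IsWeaklyRegular.nil _ _⟩
  rw [isSMulRegular_iff_right_eq_zero_of_smul]
  intro x hx
  obtain ⟨x, rfl⟩ := Submodule.Quotient.mk_surjective _ x
  obtain ⟨r, rfl⟩ : ∃ r, h = r := ⟨h, rfl⟩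
  change Submodule.Quotient.mk (h • x) = 0 at hx
  rw [Submodule.Quotient.mk_eq_zero, Submodule.mem_smul_pointwise_iff_exists] at hx
  obtain ⟨y, -, hy⟩ := hx
  rw [Submodule.Quotient.mk_eq_zero, Submodule.mem_smul_pointwise_iff_exists]
  have h1 : x * h ∈ Ideal.span {rel ((p : ℤ) ^ e)} :=
    Ideal.mem_span_singleton'.mpr ⟨y, by rw [mul_comm, mul_comm x]; exact hy⟩
  obtain ⟨z, hz⟩ := Ideal.mem_span_singleton'.mp (isDomain_quotient _ hq h1 (lam_h_ne_zero p e π hint D h hh))
  exact ⟨z, trivial, by rw [smul_eq_mul, mul_comm]; exact hz⟩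

end Order

end Groth.Agent.WeilNumLib
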