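import Groth.Agent.WeilNumLib.Order
import Mathlib

/-!
Counting unit roots of a Weil polynomial.
-/

open Polynomial
open scoped NNReal

namespace Groth.Agent.WeilNumLib

variable (p : ℕ) [Fact p.Prime]

/-- The valuation ring of `ℚ̄_p`. -/
noncomputable abbrev padicInt : ValuationSubring (PadicAlgCl p) :=
  (Valued.v : Valuation (PadicAlgCl p) ℝ≥0).valuationSubring

theorem mem_padicInt_iff (x : PadicAlgCl p) : x ∈ padicInt p ↔ ‖x‖ ≤ 1 := by
  rw [Valuation.mem_valuationSubring_iff, PadicAlgCl.valuation_def, ← NNReal.coe_le_coe]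
  rfl

theorem residue_eq_zero_iff (x : padicInt p) :
    IsLocalRing.residue (padicInt p) x = 0 ↔ ‖(x : PadicAlgCl p)‖ < 1 := by
  rw [IsLocalRing.residue_eq_zero_iff, Valuation.mem_maximalIdeal_iff, PadicAlgCl.valuation_def,
    ← NNReal.coe_lt_coe]
  rfl

/-- The integers in the residue field: zero exactly at multiples of `p`. -/
theorem residue_intCast_eq_zero_iff (c : ℤ) :
    IsLocalRing.residue (padicInt p) (c : padicInt p) = 0 ↔ (p : ℤ) ∣ c := by
  rw [residue_eq_zero_iff, ← Padic.norm_intCast_lt_one_iff (p := p), ← PadicAlgCl.norm_extends]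
  simp

theorem norm_le_one_of_mem_aroots {P : ℤ[X]} (hP : P.Monic) {z : PadicAlgCl p}
    (hz : z ∈ P.aroots (PadicAlgCl p)) : z ∈ padicInt p := by
  have hint : IsIntegral ℤ z := ⟨P, hP, (Polynomial.mem_aroots.mp hz).2⟩
  have h1 : IsIntegral (padicInt p) z := hint.tower_top
  obtain ⟨y, hy⟩ := IsIntegrallyClosed.isIntegral_iff.mp h1
  rw [← hy]
  exact y.2

/-- The trailing degree modulo `p` counts the non-unit roots. -/
theorem card_units_add_trailingDegree {P : ℤ[X]} (hP : P.Monic) :
    Multiset.card ((P.aroots (PadicAlgCl p)).filter fun z => ‖z‖ = 1) +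
      (P.map ((IsLocalRing.residue (padicInt p)).comp (Int.castRingHom (padicInt p)))).natTrailingDegree
      = P.natDegree := by
  classical
  set S := P.aroots (PadicAlgCl p) with hS
  let T : Multiset (padicInt p) := S.attach.map fun z => ⟨z.1, norm_le_one_of_mem_aroots p hP z.2⟩
  have hT : T.map Subtype.val = S := by
    simp only [T, Multiset.map_map]
    exact Multiset.attach_map_val S
  have hcard : Multiset.card S = P.natDegree := by
    rw [hS, Polynomial.aroots_def, IsAlgClosed.card_roots_eq_natDegree, hP.natDegree_map]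
  have hfac : P.map (Int.castRingHom (padicInt p)) = (T.map fun a => X - C a).prod := by
    apply Polynomial.map_injective (padicInt p).subtype Subtype.val_injective
    rw [Polynomial.map_map, Polynomial.map_multiset_prod, Multiset.map_map]
    rw [show ((padicInt p).subtype.comp (Int.castRingHom (padicInt p))) = algebraMap ℤ (PadicAlgCl p)
      from RingHom.ext_int _ _, (IsAlgClosed.splits (P.map (algebraMap ℤ (PadicAlgCl p)))).eq_prod_roots_of_monic
        (hP.map _), ← Polynomial.aroots_def, ← hS, ← hT, Multiset.map_map]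
    refine congrArg Multiset.prod (Multiset.map_congr rfl fun a _ => ?_)
    simp
  set r := IsLocalRing.residue (padicInt p)
  rw [← Polynomial.map_map, hfac, Polynomial.map_multiset_prod, Multiset.map_map]
  have hprod : ∀ U : Multiset (padicInt p),
      Multiset.card ((U.map Subtype.val).filter fun z : PadicAlgCl p => ‖z‖ = 1) +
        ((U.map ((Polynomial.map r) ∘ fun a => X - C a)).prod).natTrailingDegree =
          Multiset.card U := by
    intro U
    induction U using Multiset.induction_on with
    | empty => simp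
    | cons a U ih =>
      have hne : (U.map ((Polynomial.map r) ∘ fun a => X - C a)).prod ≠ 0 := by
        refine Multiset.prod_ne_zero fun h0 => ?_
        obtain ⟨b, -, hb⟩ := Multiset.mem_map.mp h0
        simp only [Function.comp_apply, Polynomial.map_sub, Polynomial.map_X, Polynomial.map_C] at hb
        exact Polynomial.X_sub_C_ne_zero _ hb
      rw [Multiset.map_cons, Multiset.map_cons, Multiset.prod_cons, Function.comp_apply,
        Polynomial.map_sub, Polynomial.map_X, Polynomial.map_C,
        Polynomial.natTrailingDegree_mul (Polynomial.X_sub_C_ne_zero _) hne, Multiset.card_cons]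
      by_cases ha : r a = 0
      · have hn : ¬ ‖(a : PadicAlgCl p)‖ = 1 := ((residue_eq_zero_iff p a).mp ha).ne
        rw [Multiset.filter_cons, if_neg hn, zero_add, ha, map_zero, sub_zero, Polynomial.natTrailingDegree_X]
        omega
      · have hu : ‖(a : PadicAlgCl p)‖ = 1 :=
          le_antisymm ((mem_padicInt_iff p _).mp a.2) (not_lt.mp ((residue_eq_zero_iff p a).not.mp ha))
        rw [Multiset.filter_cons, if_pos hu, Multiset.card_add, Multiset.card_singleton]
        have h0 : (X - C (r a)).natTrailingDegree = 0 := by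
          rw [Polynomial.natTrailingDegree_eq_zero]
          exact Or.inr (by simp [ha])
        rw [h0]
        omega
  have hTc : Multiset.card T = P.natDegree :=
    (Multiset.card_map _ T).symm.trans ((congrArg Multiset.card hT).trans hcard)
  have h := hprod T
  rw [hTc] at h
  rw [← hT]
  exact h

theorem ordinary_iff (e : ℕ) (he : 0 < e) {P : ℤ[X]} (hP : P.Monic) (D : ℕ)
    (hdeg : P.natDegree = 2 * D) (hweil : ∀ z ∈ P.aroots ℂ, ‖z‖ = Real.sqrt ((p : ℝ) ^ e)) :
    2 * Multiset.card ((P.aroots (PadicAlgCl p)).filter fun z => ‖z‖ = 1) = P.natDegree ↔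
      ¬ (p : ℤ) ∣ P.coeff D := by
  classical
  obtain ⟨ε, -, hpal⟩ := exists_sign_palindrome P hP (p ^ e) (pow_pos (Fact.out : p.Prime).pos e) D
    hdeg (fun z hz => by rw [Nat.cast_pow]; exact hweil z hz)
  have h := card_units_add_trailingDegree p hP
  set f := (IsLocalRing.residue (padicInt p)).comp (Int.castRingHom (padicInt p)) with hf
  have hfz : ∀ c, f c = 0 ↔ (p : ℤ) ∣ c := fun c => residue_intCast_eq_zero_iff p c
  have hne : P.map f ≠ 0 := (hP.map f).ne_zero
  have hlow : ∀ j < D, (P.map f).coeff j = 0 := by
    intro j hj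
    obtain ⟨r, hr1, rfl⟩ : ∃ r, r ≤ D ∧ j = D - r := ⟨D - j, by omega, by omega⟩
    rw [Polynomial.coeff_map, hfz, hpal r hr1, Nat.cast_pow]
    refine Dvd.dvd.mul_right (Dvd.dvd.mul_left ?_ _) _
    rw [← pow_mul]
    refine dvd_pow_self _ (Nat.mul_pos he ?_).ne'
    omega
  have hge : D ≤ (P.map f).natTrailingDegree := Polynomial.le_natTrailingDegree hne hlow
  rw [← hfz, ← Polynomial.coeff_map]
  constructor
  · intro hu hz
    have : (P.map f).natTrailingDegree = D := by omega
    rw [← this] at hz
    exact Polynomial.trailingCoeff_eq_zero.not.mpr hne hz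
  · intro hz
    have : (P.map f).natTrailingDegree ≤ D := Polynomial.natTrailingDegree_le_of_ne_zero hz
    omega

end Groth.Agent.WeilNumLib
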